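import Groth.Agent.ComodLib.HopfSubInv
import Groth.Agent.ComodLib.Criterion
import Groth.Agent.ComodLib.Integral
import Groth.Agent.ComodLib.Antipode
import Mathlib.RingTheory.HopfAlgebra.Convolution

/-!
# Linear reductivity in exact sequences of affine groups
-/

universe u

set_option autoImplicit false
set_option backward.isDefEq.respectTransparency false
set_option backward.isDefEq.respectTransparency.types false

open TensorProduct WithConv

namespace Groth.Agent.LinRedExt

theorem exists_lTensor_ker {R : Type*} [CommRing R] {A M N : Type*} [AddCommGroup A] [Module R A] [Module.Flat R A]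
    [AddCommGroup M] [Module R M] [AddCommGroup N] [Module R N] (f : M →ₗ[R] N) (x : A ⊗[R] M)
    (h : f.lTensor A x = 0) : ∃ y, (LinearMap.ker f).subtype.lTensor A y = x :=
  ((Module.Flat.lTensor_exact (M := A) (LinearMap.exact_subtype_ker_map f)) x).mp h

open Groth.Agent.ComodLib

variable {k : Type u} [Field k] {C A K : Type u} [CommRing C] [CommRing A] [CommRing K]
  [HopfAlgebra k C] [HopfAlgebra k A] [HopfAlgebra k K]
  (φ : C →ₐc[k] A) (ψ : A →ₐc[k] K)

/-- A right invariant integral gives an invariant one. -/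
theorem isIntegral_antipode {H : Type u} [CommRing H] [HopfAlgebra k H] {β : H →ₗ[k] k}
    (hβ : IsRightIntegral k β) : IsIntegral k (β ∘ₗ HopfAlgebra.antipode k) := by
  intro a
  have key : ∀ z : H ⊗[k] H,
      TensorProduct.comm k H k ((HopfAlgebra.antipode k).rTensor k
        (β.lTensor H (TensorProduct.map (HopfAlgebra.antipode k) (HopfAlgebra.antipode k)
          (TensorProduct.comm k H H z)))) = (β ∘ₗ HopfAlgebra.antipode k).rTensor H z := fun z => by
    induction z using TensorProduct.induction_on with
    | zero => simp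
    | tmul p q => simp [antipode_antipode_apply]
    | add p q hp hq => simp only [map_add, hp, hq]
  rw [← key, ← comul_antipode, hβ]
  simp

theorem isLinearlyReductive_left (hφ : Function.Injective φ) (hG : HopfRep.IsLinearlyReductive k A) :
    HopfRep.IsLinearlyReductive k C := by
  obtain ⟨α, hα, h1⟩ := exists_integral_of_isLinearlyReductive hG
  refine isLinearlyReductive_of_integral (α := α ∘ₗ (φ : C →ₐ[k] A).toLinearMap) (fun c => ?_) (by simp [h1])
  apply (Module.Flat.lTensor_preserves_injective_linearMap (M := k) (φ : C →ₐ[k] A).toLinearMap hφ)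
  have h := hα (φ c)
  rw [show Coalgebra.comul (R := k) (φ c) = TensorProduct.map (φ : C →ₐ[k] A).toLinearMap (φ : C →ₐ[k] A).toLinearMap
    (Coalgebra.comul (R := k) c) from (CoalgHomClass.map_comp_comul_apply φ c).symm] at h
  refine Eq.trans ?_ (h.trans ?_)
  · induction Coalgebra.comul (R := k) c using TensorProduct.induction_on with
    | zero => simp
    | tmul p q => simp
    | add p q hp hq => simp only [map_add, hp, hq]
  · simp

variable [Algebra.FiniteType k A] [Algebra.FiniteType k C]
  (hker : RingHom.ker (ψ : A →ₐ[k] K) = Ideal.map (φ : C →ₐ[k] A) (RingHom.ker (Bialgebra.counitAlgHom k C)))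

/-- Right translation by the kernel. -/
noncomputable def tau : A →ₐ[k] A ⊗[k] K :=
  (Algebra.TensorProduct.map (AlgHom.id k A) (ψ : A →ₐ[k] K)).comp (Bialgebra.comulAlgHom k A)

omit [Algebra.FiniteType k A] [Algebra.FiniteType k C] in
include hker in
theorem psi_phi (c : C) : ψ (φ c) = algebraMap k K (Coalgebra.counit (R := k) c) := by
  have h : c - algebraMap k C (Coalgebra.counit (R := k) c) ∈ RingHom.ker (Bialgebra.counitAlgHom k C) := by
    simp [RingHom.mem_ker]
  have h2 := hker.ge (Ideal.mem_map_of_mem _ h)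
  rw [RingHom.mem_ker, map_sub, map_sub, sub_eq_zero, AlgHom.commutes, AlgHom.commutes] at h2
  exact h2

omit [Algebra.FiniteType k A] [Algebra.FiniteType k C] in
include hker in
theorem tau_phi (c : C) : tau ψ (φ c) = φ c ⊗ₜ[k] (1 : K) := by
  show Algebra.TensorProduct.map (AlgHom.id k A) (ψ : A →ₐ[k] K) (Coalgebra.comul (R := k) (φ c)) = _
  rw [show Coalgebra.comul (R := k) (φ c) = TensorProduct.map (φ : C →ₐ[k] A).toLinearMap (φ : C →ₐ[k] A).toLinearMap
    (Coalgebra.comul (R := k) c) from (CoalgHomClass.map_comp_comul_apply φ c).symm]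
  have key : ∀ z : C ⊗[k] C, Algebra.TensorProduct.map (AlgHom.id k A) (ψ : A →ₐ[k] K)
      (TensorProduct.map (φ : C →ₐ[k] A).toLinearMap (φ : C →ₐ[k] A).toLinearMap z) =
      φ (TensorProduct.rid k C (Coalgebra.counit.lTensor C z)) ⊗ₜ[k] (1 : K) := fun z => by
    induction z using TensorProduct.induction_on with
    | zero => simp
    | tmul p q =>
      simp only [TensorProduct.map_tmul, AlgHom.toLinearMap_apply, Algebra.TensorProduct.map_tmul, AlgHom.id_apply,
        LinearMap.lTensor_tmul, TensorProduct.rid_tmul, map_smul]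
      show φ p ⊗ₜ[k] ψ (φ q) = _
      rw [psi_phi φ ψ hker, Algebra.algebraMap_eq_smul_one, TensorProduct.tmul_smul, TensorProduct.smul_tmul']
    | add p q hp hq => simp only [map_add, add_tmul, hp, hq]
  rw [key]
  simp

include hker in
/-- The extension of two linearly reductive groups is linearly reductive. -/
theorem isLinearlyReductive_mid (hφ : Function.Injective φ) (hK : HopfRep.IsLinearlyReductive k K)
    (hQ : HopfRep.IsLinearlyReductive k C) : HopfRep.IsLinearlyReductive k A := by
  obtain ⟨β₀, hβ₀, hb₀⟩ := exists_integral_of_isLinearlyReductive hK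
  obtain ⟨γ₀, hγ₀, hg₀⟩ := exists_integral_of_isLinearlyReductive hQ
  let β : K →ₗ[k] k := β₀ ∘ₗ HopfAlgebra.antipode k
  let γ : C →ₗ[k] k := γ₀ ∘ₗ HopfAlgebra.antipode k
  have hβ : IsRightIntegral k β := hβ₀.isRightIntegral_antipode
  have hγ : IsRightIntegral k γ := hγ₀.isRightIntegral_antipode
  let E : A →ₗ[k] A := (TensorProduct.rid k A).toLinearMap ∘ₗ
    (β ∘ₗ (ψ : A →ₐ[k] K).toLinearMap).lTensor A ∘ₗ Coalgebra.comul
  -- `E` commutes with left translations
  have hE : ∀ a, Coalgebra.comul (R := k) (E a) = E.lTensor A (Coalgebra.comul (R := k) a) := by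
    intro a
    have hc := (LinearMap.congr_fun (Coalgebra.coassoc (R := k) (A := A)) a).symm
    have h1 : ∀ z : A ⊗[k] A, Coalgebra.comul (R := k)
        (TensorProduct.rid k A ((β ∘ₗ (ψ : A →ₐ[k] K).toLinearMap).lTensor A z)) =
        ((TensorProduct.rid k A).toLinearMap ∘ₗ (β ∘ₗ (ψ : A →ₐ[k] K).toLinearMap).lTensor A).lTensor A
          (TensorProduct.assoc k A A A ((Coalgebra.comul (R := k)).rTensor A z)) := fun z => by
      induction z using TensorProduct.induction_on with
      | zero => simp
      | tmul p q =>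
        simp only [LinearMap.lTensor_tmul, TensorProduct.rid_tmul, map_smul, LinearMap.rTensor_tmul]
        induction Coalgebra.comul (R := k) p using TensorProduct.induction_on with
        | zero => simp
        | tmul x y => simp [TensorProduct.tmul_smul]
        | add x y hx hy => simp only [smul_add, add_tmul, map_add, hx, hy]
      | add p q hp hq => simp only [map_add, hp, hq]
    show Coalgebra.comul (R := k) (TensorProduct.rid k A _) = _
    rw [LinearMap.comp_apply]
    rw [h1]
    simp only [LinearMap.comp_apply, LinearEquiv.coe_coe] at hc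
    rw [← hc, ← LinearMap.comp_apply, ← LinearMap.lTensor_comp]
    rfl
  -- `E` is invariant under the kernel
  have hEK : ∀ a, Coalgebra.comul (R := k) (E a) - E a ⊗ₜ[k] (1 : A) ∈ LinearMap.range
      (((Ideal.map (φ : C →+* A) (RingHom.ker (Bialgebra.counitAlgHom k C))).restrictScalars k).subtype.lTensor A) := by
    intro a
    refine (Module.Flat.lTensor_exact (M := A) (f := _) (g := (ψ : A →ₐ[k] K).toLinearMap) ?_ _).mp ?_
    · refine LinearMap.exact_iff.mpr ?_
      rw [Submodule.range_subtype]
      ext x
      show x ∈ RingHom.ker (ψ : A →ₐ[k] K) ↔ _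
      rw [hker]
      rfl
    · rw [map_sub, sub_eq_zero, hE]
      have h1 : ∀ z : A ⊗[k] A, (ψ : A →ₐ[k] K).toLinearMap.lTensor A (E.lTensor A z) =
          ((ψ : A →ₐ[k] K).toLinearMap ∘ₗ E).lTensor A z := fun z => (LinearMap.congr_fun (LinearMap.lTensor_comp A _ E) z).symm
      have h2 : (ψ : A →ₐ[k] K).toLinearMap ∘ₗ E = (Algebra.linearMap k K) ∘ₗ β ∘ₗ (ψ : A →ₐ[k] K).toLinearMap := by
        refine LinearMap.ext fun b => ?_
        have h3 : ∀ z : A ⊗[k] A, ψ (TensorProduct.rid k A ((β ∘ₗ (ψ : A →ₐ[k] K).toLinearMap).lTensor A z)) =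
            TensorProduct.rid k K (β.lTensor K
              (TensorProduct.map (ψ : A →ₐ[k] K).toLinearMap (ψ : A →ₐ[k] K).toLinearMap z)) := fun z => by
          induction z using TensorProduct.induction_on with
          | zero => simp
          | tmul p q => simp
          | add p q hp hq => simp only [map_add, hp, hq]
        show ψ (TensorProduct.rid k A _) = _
        rw [LinearMap.comp_apply]
        rw [h3, show TensorProduct.map (ψ : A →ₐ[k] K).toLinearMap (ψ : A →ₐ[k] K).toLinearMap
          (Coalgebra.comul (R := k) b) = Coalgebra.comul (R := k) (ψ b) from CoalgHomClass.map_comp_comul_apply ψ b,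
          hβ, TensorProduct.rid_tmul, Algebra.smul_def, mul_one]
        rfl
      rw [h1, h2, LinearMap.lTensor_tmul, AlgHom.toLinearMap_apply, map_one]
      show (Algebra.linearMap k K ∘ₗ β ∘ₗ (ψ : A →ₐ[k] K).toLinearMap).lTensor A (Coalgebra.comul (R := k) a) =
        TensorProduct.rid k A ((β ∘ₗ (ψ : A →ₐ[k] K).toLinearMap).lTensor A (Coalgebra.comul (R := k) a)) ⊗ₜ[k] 1
      induction Coalgebra.comul (R := k) a using TensorProduct.induction_on with
      | zero => simp
      | tmul p q => simp [TensorProduct.smul_tmul', Algebra.algebraMap_eq_smul_one]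
      | add p q hp hq => simp only [map_add, add_tmul, hp, hq]
  let e := LinearEquiv.ofInjective (φ : C →ₐ[k] A).toLinearMap hφ
  have hmem : ∀ a, E a ∈ LinearMap.range (φ : C →ₐ[k] A).toLinearMap := fun a =>
    ComodLib.mem_range_of_comul_sub_mem φ hφ _ (hEK a)
  let E' : A →ₗ[k] C := e.symm.toLinearMap ∘ₗ E.codRestrict _ hmem
  have hE' : ∀ a, φ (E' a) = E a := fun a => congrArg Subtype.val (e.apply_symm_apply ⟨E a, hmem a⟩)
  refine isLinearlyReductive_of_integral (α := (γ ∘ₗ E') ∘ₗ HopfAlgebra.antipode k)
    (isIntegral_antipode fun a => ?_) ?_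
  · have h := hγ (E' a)
    have h1 : (φ : C →ₐ[k] A).toLinearMap.lTensor A
        (E'.lTensor A (Coalgebra.comul (R := k) a)) = TensorProduct.map (φ : C →ₐ[k] A).toLinearMap
          (φ : C →ₐ[k] A).toLinearMap (Coalgebra.comul (R := k) (E' a)) := by
      rw [show TensorProduct.map (φ : C →ₐ[k] A).toLinearMap (φ : C →ₐ[k] A).toLinearMap
          (Coalgebra.comul (R := k) (E' a)) = Coalgebra.comul (R := k) (φ (E' a)) from
        CoalgHomClass.map_comp_comul_apply φ _, hE', hE, ← LinearMap.comp_apply, ← LinearMap.lTensor_comp]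
      exact congrArg (fun f : A →ₗ[k] A => f.lTensor A _) (LinearMap.ext hE')
    have h2 : E'.lTensor A (Coalgebra.comul (R := k) a) =
        (φ : C →ₐ[k] A).toLinearMap.rTensor C (Coalgebra.comul (R := k) (E' a)) := by
      apply Module.Flat.lTensor_preserves_injective_linearMap (M := A) (φ : C →ₐ[k] A).toLinearMap hφ
      rw [h1, ← LinearMap.comp_apply (LinearMap.lTensor A _), LinearMap.lTensor_comp_rTensor]
    rw [LinearMap.lTensor_comp, LinearMap.comp_apply, h2, ← LinearMap.comp_apply, LinearMap.lTensor_comp_rTensor,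
      ← LinearMap.rTensor_comp_lTensor, LinearMap.comp_apply, h]
    simp
  · have h1 : E 1 = 1 := by
      simp [E, Bialgebra.comul_one, Algebra.TensorProduct.one_def, β, hb₀]
    have h1' : E' 1 = 1 := hφ (by rw [hE', h1, map_one])
    simp [h1', γ, hg₀]

include hker in
/-- A normal subgroup of a linearly reductive group is linearly reductive. -/
theorem isLinearlyReductive_ker (hφ : Function.Injective φ) (hψ : Function.Surjective ψ)
    (hG : HopfRep.IsLinearlyReductive k A) : HopfRep.IsLinearlyReductive k K := by
  obtain ⟨α, hα, hα1⟩ := exists_integral_of_isLinearlyReductive hG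
  refine isLinearlyReductive_of_hasFixedVectors ?_
  intro V _ _ cV _ π hπs hπ
  letI : Algebra C A := (φ : C →ₐ[k] A).toRingHom.toAlgebra
  haveI : IsScalarTower k C A := IsScalarTower.of_algebraMap_eq fun c => ((φ : C →ₐ[k] A).commutes c).symm
  haveI : Module.FaithfullyFlat C A := GrpSchLib.HopfFlat.faithfullyFlat φ hφ
  let L : A →ₐ[k] A ⊗[C] A := (Algebra.TensorProduct.includeLeft : A →ₐ[C] A ⊗[C] A).restrictScalars k
  let R : A →ₐ[k] A ⊗[C] A := (Algebra.TensorProduct.includeRight : A →ₐ[C] A ⊗[C] A).restrictScalars k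
  let Θ : A →ₐ[k] A ⊗[C] A := (toConv (L.comp (HopfAlgebra.antipodeAlgHom k A)) * toConv R).ofConv
  have hΘφ : Θ.comp (φ : C →ₐ[k] A) = (1 : WithConv (C →ₐ[k] A ⊗[C] A)).ofConv := by
    show AlgHom.comp _ (φ : C →ₐ[k] A) = _
    rw [AlgHom.convMul_comp_bialgHom_distrib]
    show (toConv ((L.comp (HopfAlgebra.antipodeAlgHom k A)).comp (φ : C →ₐ[k] A)) *
      toConv (R.comp (φ : C →ₐ[k] A))).ofConv = _
    rw [AlgHom.comp_assoc, show (HopfAlgebra.antipodeAlgHom k A).comp (φ : C →ₐ[k] A) =
        (φ : C →ₐ[k] A).comp (HopfAlgebra.antipodeAlgHom k C) from AlgHom.ext fun c =>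
          GrpSchLib.HopfGalois.antipode_bialgHom φ c, ← AlgHom.comp_assoc,
      show L.comp (φ : C →ₐ[k] A) = R.comp (φ : C →ₐ[k] A) from AlgHom.ext fun c =>
        ((Algebra.TensorProduct.includeLeft : A →ₐ[C] A ⊗[C] A).commutes c).trans
          ((Algebra.TensorProduct.includeRight : A →ₐ[C] A ⊗[C] A).commutes c).symm,
      GrpSchLib.HopfQuot.inv_convMul_self]
  have hΘker : RingHom.ker (ψ : A →ₐ[k] K).toRingHom ≤ RingHom.ker Θ.toRingHom := by
    intro x hx
    have hx' : x ∈ Ideal.map (φ : C →ₐ[k] A) (RingHom.ker (Bialgebra.counitAlgHom k C)) := hker.le hx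
    refine (Ideal.map_le_iff_le_comap.mpr (fun c hc => ?_) : _ ≤ RingHom.ker Θ.toRingHom) hx'
    show Θ (φ c) = 0
    refine (AlgHom.congr_fun hΘφ c).trans ?_
    show algebraMap k _ (Coalgebra.counit (R := k) c) = 0
    rw [show Coalgebra.counit (R := k) c = 0 from hc, map_zero]
  let Θb : K →ₐ[k] A ⊗[C] A := AlgHom.liftOfSurjective (ψ : A →ₐ[k] K) hψ Θ hΘker
  have hΘb : Θb.comp (ψ : A →ₐ[k] K) = Θ := AlgHom.liftOfSurjective_comp _ _ _ _
  let τC : A →ₐ[C] A ⊗[k] K :=
    { (tau ψ).toRingHom with commutes' := fun c => tau_phi φ ψ hker c }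
  let T : A ⊗[C] A →ₐ[k] (A ⊗[C] A) ⊗[k] K :=
    ((Algebra.TensorProduct.assoc k C C A A K).symm.toAlgHom.comp
      (Algebra.TensorProduct.map (AlgHom.id C A) τC)).restrictScalars k
  let i₁ : A ⊗[C] A →ₐ[k] (A ⊗[C] A) ⊗[k] K := Algebra.TensorProduct.includeLeft
  let i₂ : K →ₐ[k] (A ⊗[C] A) ⊗[k] K := Algebra.TensorProduct.includeRight
  have hT : toConv (T.comp Θb) = toConv (i₁.comp Θb) * toConv i₂ := by
    have hTL : T.comp L = i₁.comp L := AlgHom.ext fun x => by
      show (Algebra.TensorProduct.assoc k C C A A K).symm (x ⊗ₜ[C] τC 1) = (x ⊗ₜ[C] (1 : A)) ⊗ₜ[k] (1 : K)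
      rw [map_one, Algebra.TensorProduct.one_def, Algebra.TensorProduct.assoc_symm_tmul]
    have hTR : toConv (T.comp R) = toConv (i₁.comp R) * toConv (i₂.comp (ψ : A →ₐ[k] K)) := by
      refine WithConv.ofConv_injective (AlgHom.ext fun x => ?_)
      rw [AlgHom.convMul_apply]
      show (Algebra.TensorProduct.assoc k C C A A K).symm ((1 : A) ⊗ₜ[C]
        (Algebra.TensorProduct.map (AlgHom.id k A) (ψ : A →ₐ[k] K) (Coalgebra.comul (R := k) x))) = _
      induction Coalgebra.comul (R := k) x using TensorProduct.induction_on with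
      | zero => simp
      | tmul p q => simp [i₁, i₂, R, Algebra.TensorProduct.assoc_symm_tmul]
      | add p q hp hq => simp only [map_add, tmul_add, hp, hq]
    have h : toConv ((T.comp Θb).comp (ψ : A →ₐ[k] K)) =
        toConv ((toConv (i₁.comp Θb) * toConv i₂).ofConv.comp (ψ : A →ₐ[k] K)) := by
      rw [AlgHom.comp_assoc, hΘb, AlgHom.convMul_comp_bialgHom_distrib]
      simp only [WithConv.ofConv_toConv, AlgHom.comp_assoc, hΘb, WithConv.toConv_ofConv]
      simp only [Θ]
      rw [AlgHom.comp_convMul_distrib, AlgHom.comp_convMul_distrib]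
      simp only [WithConv.ofConv_toConv, WithConv.toConv_ofConv]
      rw [← AlgHom.comp_assoc, hTL, AlgHom.comp_assoc, hTR]
      exact (mul_assoc (toConv (i₁.comp (L.comp (HopfAlgebra.antipodeAlgHom k A)))) (toConv (i₁.comp R))
        (toConv (i₂.comp (ψ : A →ₐ[k] K)))).symm
    refine WithConv.ofConv_injective (AlgHom.ext fun b => ?_)
    obtain ⟨a, rfl⟩ := hψ b
    exact AlgHom.congr_fun (congrArg WithConv.ofConv h) a
  let Ω : K →ₐ[k] A ⊗[C] A := Θb.comp (HopfAlgebra.antipodeAlgHom k K)
  have hΩ : toConv i₂ * toConv (T.comp Ω) = toConv (i₁.comp Ω) := by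
    have e : toConv (i₁.comp Ω) * toConv (i₁.comp Θb) = 1 := GrpSchLib.HopfQuot.inv_convMul_self (i₁.comp Θb)
    have e2 : toConv i₂ = toConv (i₁.comp Ω) * toConv (T.comp Θb) :=
      (one_mul (toConv i₂)).symm.trans ((congrArg (· * toConv i₂) e.symm).trans ((mul_assoc (toConv (i₁.comp Ω)) (toConv (i₁.comp Θb)) (toConv i₂)).trans
        (congrArg (toConv (i₁.comp Ω) * ·) hT.symm)))
    have e3 : toConv (T.comp Θb) * toConv (T.comp Ω) = 1 := GrpSchLib.HopfQuot.self_convMul_inv (T.comp Θb)
    exact (congrArg (· * toConv (T.comp Ω)) e2).trans ((mul_assoc (toConv (i₁.comp Ω)) (toConv (T.comp Θb)) (toConv (T.comp Ω))).trans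
      ((congrArg (toConv (i₁.comp Ω) * ·) e3).trans (mul_one (toConv (i₁.comp Ω)))))
  -- reading a comodule through an algebra map
  let rv (W : Type u) [CommRing W] [Algebra k W] (h : K →ₐ[k] W) : V →ₗ[k] W ⊗[k] V :=
    h.toLinearMap.rTensor V ∘ₗ (TensorProduct.comm k V K).toLinearMap ∘ₗ cV.coact
  let μ : A → K ⊗[k] V →ₗ[k] (A ⊗[k] K) ⊗[k] V := fun y =>
    ((LinearMap.mulLeft k (tau ψ y)) ∘ₗ (Algebra.TensorProduct.includeRight : K →ₐ[k] A ⊗[k] K).toLinearMap).rTensor V
  have hμadd : ∀ y y', μ (y + y') = μ y + μ y' := fun y y' => TensorProduct.ext' fun b v => by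
    simp [μ, add_mul, add_tmul]
  have hμsmul : ∀ (c : C) y w, μ (c • y) w = c • μ y w := fun c y w => by
    induction w using TensorProduct.induction_on with
    | zero => simp
    | tmul b v =>
      simp only [μ, LinearMap.rTensor_tmul, LinearMap.comp_apply, LinearMap.mulLeft_apply, AlgHom.toLinearMap_apply]
      rw [show tau ψ (c • y) = c • tau ψ y from map_smul τC c y, smul_mul_assoc, TensorProduct.smul_tmul']
    | add p q hp hq => simp only [map_add, smul_add, hp, hq]
  let G₀ : A ⊗[k] V →ₗ[k] (A ⊗[k] K) ⊗[k] V := TensorProduct.lift (LinearMap.mk₂ k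
    (fun y v => μ y (TensorProduct.comm k V K (cV.coact v)))
    (fun y y' v => by rw [hμadd]; rfl)
    (fun r y v => by
      rw [← algebraMap_smul C r y, hμsmul, algebraMap_smul])
    (fun y v v' => by simp only [map_add]) (fun r y v => by simp only [map_smul]))
  let D : A ⊗[k] V →ₗ[C] (A ⊗[k] K) ⊗[k] V :=
    { toFun := fun w => G₀ w - (Algebra.TensorProduct.includeLeft : A →ₐ[k] A ⊗[k] K).toLinearMap.rTensor V w
      map_add' := fun w w' => by simp only [map_add]; abel
      map_smul' := fun c w => by
        simp only [RingHom.id_apply, smul_sub]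
        congr 1
        · induction w using TensorProduct.induction_on with
          | zero => simp
          | tmul y v => exact hμsmul c y _
          | add p q hp hq => simp only [smul_add, map_add, hp, hq]
        · induction w using TensorProduct.induction_on with
          | zero => simp
          | tmul y v => rfl
          | add p q hp hq => simp only [smul_add, map_add, hp, hq] }
  let L₀ : A ⊗[k] V →ₗ[k] A := (TensorProduct.rid k A).toLinearMap ∘ₗ π.lTensor A
  let P : A ⊗[k] V →ₗ[C] A :=
    { L₀ with
      map_smul' := fun c w => by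
        show L₀ (c • w) = c • L₀ w
        induction w using TensorProduct.induction_on with
        | zero => simp
        | tmul y v =>
          show π v • (c • y) = c • (π v • y)
          exact smul_comm _ _ _
        | add p q hp hq => simp only [smul_add, map_add, hp, hq] }
  obtain ⟨v, hv⟩ := hπs 1
  let z : (A ⊗[C] A) ⊗[k] V := rv _ Ω v
  let e1 := AlgebraTensorModule.assoc k C C A A V
  have hker' : (D.lTensor A) (e1 z) = 0 := by
    let e2 : A ⊗[C] ((A ⊗[k] K) ⊗[k] V) ≃ₗ[C] ((A ⊗[C] A) ⊗[k] K) ⊗[k] V :=
      (AlgebraTensorModule.assoc k C C A (A ⊗[k] K) V).symm ≪≫ₗ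
        TensorProduct.AlgebraTensorModule.congr (AlgebraTensorModule.assoc k C C A A K).symm (LinearEquiv.refl k V)
    refine e2.injective ?_
    rw [map_zero]
    let G : (A ⊗[C] A) ⊗[k] V →ₗ[k] ((A ⊗[C] A) ⊗[k] K) ⊗[k] V := TensorProduct.lift (LinearMap.mk₂ k
      (fun t v => (LinearMap.mulLeft k (T t) ∘ₗ i₂.toLinearMap).rTensor V (TensorProduct.comm k V K (cV.coact v)))
      (fun t t' v => by
        rw [map_add]
        induction TensorProduct.comm k V K (cV.coact v) using TensorProduct.induction_on with
        | zero => simp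
        | tmul b v => simp [add_mul, add_tmul]
        | add p q hp hq => simp only [map_add, hp, hq]; abel)
      (fun r t v => by
        rw [map_smul]
        induction TensorProduct.comm k V K (cV.coact v) using TensorProduct.induction_on with
        | zero => simp
        | tmul b v => simp [TensorProduct.smul_tmul', smul_mul_assoc]
        | add p q hp hq => simp only [map_add, hp, hq, smul_add])
      (fun t v v' => by simp only [map_add]) (fun r t v => by simp only [map_smul]))
    have hcomm : ∀ t, e2 (D.lTensor A (e1 t)) = G t - i₁.toLinearMap.rTensor V t := by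
      intro t
      induction t using TensorProduct.induction_on with
      | zero => simp
      | add p q hp hq => simp only [map_add, hp, hq]; abel
      | tmul t v =>
        induction t using TensorProduct.induction_on with
        | zero => simp
        | add p q hp hq => simp only [add_tmul, map_add, hp, hq]; abel
        | tmul x y =>
          show e2 (x ⊗ₜ[C] (μ y (TensorProduct.comm k V K (cV.coact v)) - (y ⊗ₜ[k] (1 : K)) ⊗ₜ[k] v)) =
            (LinearMap.mulLeft k (T (x ⊗ₜ[C] y)) ∘ₗ i₂.toLinearMap).rTensor V (TensorProduct.comm k V K (cV.coact v))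
              - ((x ⊗ₜ[C] y) ⊗ₜ[k] (1 : K)) ⊗ₜ[k] v
          rw [tmul_sub, map_sub]
          congr 1
          induction TensorProduct.comm k V K (cV.coact v) using TensorProduct.induction_on with
          | zero => simp
          | add p q hp hq => simp only [map_add, tmul_add, hp, hq]
          | tmul b v =>
            simp only [μ, LinearMap.rTensor_tmul, LinearMap.comp_apply, LinearMap.mulLeft_apply,
              AlgHom.toLinearMap_apply]
            show e2 (x ⊗ₜ[C] ((tau ψ y * (1 ⊗ₜ[k] b)) ⊗ₜ[k] v)) =
              ((Algebra.TensorProduct.assoc k C C A A K).symm (x ⊗ₜ[C] tau ψ y) * (1 ⊗ₜ[k] b)) ⊗ₜ[k] v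
            induction tau ψ y using TensorProduct.induction_on with
            | zero => simp
            | add p q hp hq => simp only [add_mul, add_tmul, tmul_add, map_add, hp, hq]
            | tmul p q => simp [e2, Algebra.TensorProduct.assoc_symm_tmul]
    rw [hcomm, sub_eq_zero]
    have hG : G z = rv _ (toConv i₂ * toConv (T.comp Ω)).ofConv v := by
      show G (Ω.toLinearMap.rTensor V (TensorProduct.comm k V K (cV.coact v))) =
        (toConv i₂ * toConv (T.comp Ω)).ofConv.toLinearMap.rTensor V (TensorProduct.comm k V K (cV.coact v))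
      let Φ : V ⊗[k] (K ⊗[k] K) →ₗ[k] ((A ⊗[C] A) ⊗[k] K) ⊗[k] V :=
        (LinearMap.mul' k _ ∘ₗ TensorProduct.map i₂.toLinearMap (T.comp Ω).toLinearMap).rTensor V ∘ₗ
          (TensorProduct.comm k V (K ⊗[k] K)).toLinearMap
      have hL : ∀ w : V ⊗[k] K, G (Ω.toLinearMap.rTensor V (TensorProduct.comm k V K w)) =
          Φ (TensorProduct.assoc k V K K (cV.coact.rTensor K w)) := fun w => by
        induction w using TensorProduct.induction_on with
        | zero => simp
        | add p q hp hq => simp only [map_add, hp, hq]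
        | tmul x b =>
          show (LinearMap.mulLeft k (T (Ω b)) ∘ₗ i₂.toLinearMap).rTensor V (TensorProduct.comm k V K (cV.coact x)) =
            Φ (TensorProduct.assoc k V K K (cV.coact x ⊗ₜ[k] b))
          induction cV.coact x using TensorProduct.induction_on with
          | zero => simp
          | add p q hp hq => simp only [map_add, add_tmul, hp, hq]
          | tmul x' b' => simp [Φ, mul_comm]
      have hc := LinearMap.congr_fun cV.coassoc v
      simp only [LinearMap.comp_apply, LinearEquiv.coe_coe] at hc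
      rw [hL, hc]
      induction cV.coact v using TensorProduct.induction_on with
      | zero => simp
      | add p q hp hq => simp only [map_add, hp, hq]
      | tmul x b =>
        simp only [LinearMap.lTensor_tmul, Φ, LinearMap.comp_apply, LinearEquiv.coe_coe, TensorProduct.comm_tmul,
          LinearMap.rTensor_tmul]
        congr 1
    rw [hG, hΩ]
    show (i₁.comp Ω).toLinearMap.rTensor V _ = _
    rw [show (i₁.comp Ω).toLinearMap = i₁.toLinearMap ∘ₗ Ω.toLinearMap from rfl, LinearMap.rTensor_comp]
    rfl
  obtain ⟨y, hy⟩ := exists_lTensor_ker D (e1 z) hker'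
  have hPz : P.lTensor A (e1 z) = (1 : A) ⊗ₜ[C] (1 : A) := by
    have hkey : ∀ w : K ⊗[k] V, P.lTensor A (e1 (Ω.toLinearMap.rTensor V w)) =
        Ω (TensorProduct.rid k K (π.lTensor K w)) := fun w => by
      induction w using TensorProduct.induction_on with
      | zero => simp
      | add p q hp hq => simp only [map_add, hp, hq]
      | tmul b x =>
        simp only [LinearMap.rTensor_tmul, LinearMap.lTensor_tmul, TensorProduct.rid_tmul, map_smul,
          AlgHom.toLinearMap_apply]
        induction Ω b using TensorProduct.induction_on with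
        | zero => simp
        | tmul p q => simp [e1, P, L₀, TensorProduct.smul_tmul']
        | add p q hp hq => simp only [add_tmul, map_add, smul_add, hp, hq]
    show P.lTensor A (e1 (Ω.toLinearMap.rTensor V (TensorProduct.comm k V K (cV.coact v)))) = _
    rw [hkey]
    have h := LinearMap.congr_fun hπ v
    simp only [LinearMap.comp_apply, LinearMap.flip_apply, TensorProduct.mk_apply, hv] at h
    rw [show π.lTensor K (TensorProduct.comm k V K (cV.coact v)) = TensorProduct.comm k k K (π.rTensor K (cV.coact v)) by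
      induction cV.coact v using TensorProduct.induction_on with
      | zero => simp
      | tmul p q => simp
      | add p q hp hq => simp only [map_add, hp, hq], h]
    simp [Algebra.TensorProduct.one_def]
  let ι : LinearMap.ker D →ₗ[C] A ⊗[k] V := (LinearMap.ker D).subtype
  let g : LinearMap.ker D →ₗ[C] A := P.comp ι
  obtain ⟨⟨w, hw⟩, hPw⟩ := DescLib.mem_range_of_one_tmul_mem (A := A) (M := ↥(LinearMap.ker D)) (N := A) g (1 : A)
    ⟨y, by rw [LinearMap.lTensor_comp, LinearMap.comp_apply, hy, hPz]⟩
  refine ⟨TensorProduct.lid k V (α.rTensor V w), ?_, ?_⟩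
  · show cV.coact _ = _ ⊗ₜ[k] (1 : K)
    have hD : G₀ w = (Algebra.TensorProduct.includeLeft : A →ₐ[k] A ⊗[k] K).toLinearMap.rTensor V w :=
      sub_eq_zero.mp hw
    let N : (A ⊗[k] K) ⊗[k] V →ₗ[k] V ⊗[k] K := (TensorProduct.comm k K V).toLinearMap ∘ₗ
      ((TensorProduct.lid k K).toLinearMap ∘ₗ α.rTensor K).rTensor V
    have hl : ∀ x, N (G₀ x) = cV.coact (TensorProduct.lid k V (α.rTensor V x)) := fun x => by
      induction x using TensorProduct.induction_on with
      | zero => simp
      | add p q hp hq => simp only [map_add, hp, hq]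
      | tmul a x =>
        show N (μ a (TensorProduct.comm k V K (cV.coact x))) = cV.coact (α a • x)
        rw [map_smul]
        induction cV.coact x using TensorProduct.induction_on with
        | zero => simp
        | add p q hp hq => simp only [map_add, smul_add, hp, hq]
        | tmul x' b =>
          have h1 : TensorProduct.lid k K (α.rTensor K (tau ψ a * (1 ⊗ₜ[k] b))) = α a • b := by
            have h2 : ∀ t : A ⊗[k] A, TensorProduct.lid k K (α.rTensor K
                (Algebra.TensorProduct.map (AlgHom.id k A) (ψ : A →ₐ[k] K) t * (1 ⊗ₜ[k] b))) =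
                ψ (TensorProduct.lid k A (α.rTensor A t)) * b := fun t => by
              induction t using TensorProduct.induction_on with
              | zero => simp
              | tmul p q => simp
              | add p q hp hq => simp only [map_add, add_mul, hp, hq]
            show TensorProduct.lid k K (α.rTensor K (Algebra.TensorProduct.map _ _ (Coalgebra.comul (R := k) a) * _)) = _
            rw [h2, hα]
            simp
          simp only [N, μ, LinearMap.comp_apply, TensorProduct.comm_tmul, LinearMap.rTensor_tmul, LinearEquiv.coe_coe,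
            LinearMap.mulLeft_apply, AlgHom.toLinearMap_apply, Algebra.TensorProduct.includeRight_apply]
          rw [h1, TensorProduct.tmul_smul]
    rw [← hl w, hD]
    clear hD hl hw hPw
    induction w using TensorProduct.induction_on with
    | zero => simp
    | add p q hp hq => simp only [map_add, add_tmul, hp, hq]
    | tmul a x => simp [N, TensorProduct.smul_tmul']
  · have h1 : ∀ x, π (TensorProduct.lid k V (α.rTensor V x)) = α (P x) := fun x => by
      induction x using TensorProduct.induction_on with
      | zero => simp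
      | tmul a x => simp [P, L₀, mul_comm]
      | add p q hp hq => simp only [map_add, hp, hq]
    rw [h1, show P w = 1 from hPw, hα1]
    exact one_ne_zero

end Groth.Agent.LinRedExt
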